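import Mathlib.AlgebraicGeometry.IdealSheaf.Basic
import Mathlib.AlgebraicGeometry.Noetherian

/-!
# Multiples of locally principal ideal sheaves
-/

set_option autoImplicit false
universe u
open CategoryTheory AlgebraicGeometry TopologicalSpace

namespace Groth.Agent.Lib.CDivRatio

variable {X : Scheme.{u}}

theorem pow_span_inj {R : Type u} [CommRing R] {g : R} (hg : g ∈ nonZeroDivisors R) (hu : ¬ IsUnit g)
    {a b : ℕ} (h : Ideal.span {g} ^ a = Ideal.span {g} ^ b) : a = b := by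
  by_contra hne
  wlog hab : a < b generalizing a b
  · exact this h.symm (Ne.symm hne) (by omega)
  rw [Ideal.span_singleton_pow, Ideal.span_singleton_pow] at h
  obtain ⟨c, hc⟩ := Ideal.mem_span_singleton'.mp (h.le (Ideal.mem_span_singleton_self (g ^ a)))
  obtain ⟨k, rfl⟩ : ∃ k, b = a + (k + 1) := ⟨b - a - 1, by omega⟩
  have : (1 - c * g ^ k * g) * g ^ a = 0 := by
    linear_combination -hc
  have := (mem_nonZeroDivisors_iff_right.mp (pow_mem hg a)) _ this
  exact hu (isUnit_iff_exists_inv.mpr ⟨c * g ^ k, by linear_combination -this⟩)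

theorem map_germ_ideal_eq (I : X.IdealSheafData) {U V : X.affineOpens} {x : X} (hU : x ∈ U.1)
    (hV : x ∈ V.1) :
    (I.ideal U).map (X.presheaf.germ U.1 x hU).hom = (I.ideal V).map (X.presheaf.germ V.1 x hV).hom := by
  obtain ⟨W, hW, hxW, hle⟩ := exists_isAffineOpen_mem_and_subset (x := x) (U := U.1 ⊓ V.1) ⟨hU, hV⟩
  have h1 : (⟨W, hW⟩ : X.affineOpens) ≤ U := fun y hy => (hle hy).1
  have h2 : (⟨W, hW⟩ : X.affineOpens) ≤ V := fun y hy => (hle hy).2
  have key : ∀ {U' : X.affineOpens} (h : (⟨W, hW⟩ : X.affineOpens) ≤ U'),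
      (I.ideal U').map (X.presheaf.germ U'.1 x (h hxW)).hom =
        (I.ideal ⟨W, hW⟩).map (X.presheaf.germ W x hxW).hom := fun {U'} h => by
    rw [← I.map_ideal h, Ideal.map_map, ← CommRingCat.hom_comp]
    erw [X.presheaf.germ_res]
  rw [key h1, key h2]

theorem mem_support_iff_map_germ_ne_top (I : X.IdealSheafData) {U : X.affineOpens} {x : X}
    (hU : x ∈ U.1) :
    x ∈ I.support ↔ (I.ideal U).map (X.presheaf.germ U.1 x hU).hom ≠ ⊤ := by
  rw [I.mem_support_iff_of_mem hU, Scheme.mem_zeroLocus_iff]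
  constructor
  · intro h htop
    have hle : (I.ideal U).map (X.presheaf.germ U.1 x hU).hom ≤
        IsLocalRing.maximalIdeal (X.presheaf.stalk x) := by
      rw [Ideal.map_le_iff_le_comap]
      intro f hf hu
      exact h f hf ((Scheme.mem_basicOpen X f x hU).mpr hu)
    exact (IsLocalRing.maximalIdeal.isMaximal _).ne_top (top_le_iff.mp (htop ▸ hle))
  · intro h f hf hxf
    exact h (Ideal.eq_top_of_isUnit_mem _ (Ideal.mem_map_of_mem _ hf)
      ((Scheme.mem_basicOpen X f x hU).mp hxf))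

theorem map_germ_eq_span {I : X.IdealSheafData}
    (hI : ∀ x : X, ∃ U : X.affineOpens, x ∈ (U : X.Opens) ∧
      ∃ g : Γ(X, U), g ∈ nonZeroDivisors Γ(X, U) ∧ I.ideal U = Ideal.span {g})
    {V : X.affineOpens} {x : X} (hV : x ∈ V.1) :
    ∃ g ∈ nonZeroDivisors (X.presheaf.stalk x),
      (I.ideal V).map (X.presheaf.germ V.1 x hV).hom = Ideal.span {g} := by
  obtain ⟨U, hU, g, hg, hIU⟩ := hI x
  letI := X.presheaf.algebra_section_stalk ⟨x, hU⟩
  haveI := U.2.isLocalization_stalk ⟨x, hU⟩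
  refine ⟨X.presheaf.germ U.1 x hU g, ?_, ?_⟩
  · exact IsLocalization.map_nonZeroDivisors_le (U.2.primeIdealOf ⟨x, hU⟩).asIdeal.primeCompl
      (X.presheaf.stalk x) ⟨g, hg, rfl⟩
  · rw [map_germ_ideal_eq I hV hU, hIU, Ideal.map_span, Set.image_singleton]

/-- Proportional valid pairs at a point of the support. -/
theorem cross_eq {D E : X.IdealSheafData}
    (hD : ∀ x : X, ∃ U : X.affineOpens, x ∈ (U : X.Opens) ∧
      ∃ g : Γ(X, U), g ∈ nonZeroDivisors Γ(X, U) ∧ D.ideal U = Ideal.span {g})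
    (hE : ∀ x : X, ∃ U : X.affineOpens, x ∈ (U : X.Opens) ∧
      ∃ g : Γ(X, U), g ∈ nonZeroDivisors Γ(X, U) ∧ E.ideal U = Ideal.span {g})
    {x : X} (hx : x ∈ (D.support : Set X) ∪ E.support) {U V : X.affineOpens} (hU : x ∈ U.1)
    (hV : x ∈ V.1) {m n m' n' : ℕ} (h : D.ideal U ^ m = E.ideal U ^ n)
    (h' : D.ideal V ^ m' = E.ideal V ^ n') : m * n' = m' * n := by
  obtain ⟨g, hg, eg⟩ := map_germ_eq_span hD hU
  obtain ⟨e, he, ee⟩ := map_germ_eq_span hE hU
  have k := congrArg (Ideal.map (X.presheaf.germ U.1 x hU).hom) h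
  have k' := congrArg (Ideal.map (X.presheaf.germ V.1 x hV).hom) h'
  rw [Ideal.map_pow, Ideal.map_pow, eg, ee] at k
  rw [Ideal.map_pow, Ideal.map_pow, map_germ_ideal_eq D hV hU, map_germ_ideal_eq E hV hU, eg, ee] at k'
  rcases hx with hx | hx
  · refine pow_span_inj hg (fun hu => (mem_support_iff_map_germ_ne_top D hU).mp hx
      (eg.trans (Ideal.span_singleton_eq_top.mpr hu))) ?_
    rw [pow_mul, k, ← pow_mul, mul_comm n n', pow_mul, ← k', ← pow_mul]
  · refine (pow_span_inj he (fun hu => (mem_support_iff_map_germ_ne_top E hU).mp hx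
      (ee.trans (Ideal.span_singleton_eq_top.mpr hu))) ?_).symm.trans (Eq.refl _)
    rw [mul_comm m' n, mul_comm m n', pow_mul, ← k, ← pow_mul, mul_comm m m', pow_mul, k', ← pow_mul]

theorem exists_global_pow_eq [CompactSpace X] {D E : X.IdealSheafData}
    (hD : ∀ x : X, ∃ U : X.affineOpens, x ∈ (U : X.Opens) ∧
      ∃ g : Γ(X, U), g ∈ nonZeroDivisors Γ(X, U) ∧ D.ideal U = Ideal.span {g})
    (hE : ∀ x : X, ∃ U : X.affineOpens, x ∈ (U : X.Opens) ∧
      ∃ g : Γ(X, U), g ∈ nonZeroDivisors Γ(X, U) ∧ E.ideal U = Ideal.span {g})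
    (hconn : IsPreconnected ((D.support : Set X) ∪ (E.support : Set X)))
    (hloc : ∀ x : X, ∃ U : X.affineOpens, x ∈ (U : X.Opens) ∧
      ∃ m n : ℕ, (m, n) ≠ (0, 0) ∧ D.ideal U ^ m = E.ideal U ^ n) :
    ∃ m n : ℕ, (m, n) ≠ (0, 0) ∧ ∀ U : X.affineOpens, D.ideal U ^ m = E.ideal U ^ n := by
  classical
  choose U hU m n hmn hUeq using hloc
  by_cases hS : ((D.support : Set X) ∪ (E.support : Set X)).Nonempty
  swap
  · rw [Set.not_nonempty_iff_eq_empty, Set.union_empty_iff] at hS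
    have hD' : D = ⊤ := D.support_eq_bot_iff.mp (SetLike.coe_injective hS.1)
    have hE' : E = ⊤ := E.support_eq_bot_iff.mp (SetLike.coe_injective hS.2)
    exact ⟨1, 1, by simp, fun V => by rw [hD', hE']⟩
  obtain ⟨x₀, hx₀⟩ := hS
  let O₁ : Set X := ⋃ y ∈ {y | m y * n x₀ = m x₀ * n y}, ((U y).1 : Set X)
  let O₂ : Set X := ⋃ y ∈ {y | ¬ m y * n x₀ = m x₀ * n y}, ((U y).1 : Set X)
  have hsub : ((D.support : Set X) ∪ (E.support : Set X)) ⊆ O₁ := by
    by_contra hn
    obtain ⟨y, hyS, hy⟩ := Set.not_subset.mp hn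
    have hy2 : y ∈ O₂ := Set.mem_biUnion (fun he => hy (Set.mem_biUnion he (hU y))) (hU y)
    obtain ⟨w, hwS, hw1, hw2⟩ := hconn O₁ O₂ (isOpen_biUnion fun y _ => (U y).1.2)
      (isOpen_biUnion fun y _ => (U y).1.2)
      (fun z _ => by
        by_cases he : m z * n x₀ = m x₀ * n z
        · exact Or.inl (Set.mem_biUnion he (hU z))
        · exact Or.inr (Set.mem_biUnion he (hU z)))
      ⟨x₀, hx₀, Set.mem_biUnion rfl (hU x₀)⟩ ⟨y, hyS, hy2⟩
    simp only [O₁, O₂, Set.mem_iUnion] at hw1 hw2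
    obtain ⟨a, ha, hwa⟩ := hw1
    obtain ⟨b, hb, hwb⟩ := hw2
    have hab := cross_eq hD hE hwS hwa hwb (hUeq a) (hUeq b)
    apply hb
    have ha' : m a * n x₀ = m x₀ * n a := ha
    have hra : (m a, n a) ≠ (0, 0) := hmn a
    rcases Nat.eq_zero_or_pos (m a) with h0 | h0
    · have hna : n a ≠ 0 := fun h => hra (by rw [h0, h])
      rw [h0, zero_mul] at ha' hab
      have hmb : m b = 0 := by simpa [hna] using hab.symm
      have hmx : m x₀ = 0 := by simpa [hna] using ha'.symm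
      rw [hmb, hmx, zero_mul, zero_mul]
    · apply Nat.eq_of_mul_eq_mul_left h0
      calc m a * (m b * n x₀) = m b * (m a * n x₀) := by ring
        _ = m x₀ * (m b * n a) := by rw [ha']; ring
        _ = m x₀ * (m a * n b) := by rw [← hab]
        _ = m a * (m x₀ * n b) := by ring
  have hall : ∀ x : X, ∃ V : X.affineOpens, x ∈ V.1 ∧ ∃ a b : ℕ, (a, b) ≠ (0, 0) ∧
      a * n x₀ = m x₀ * b ∧ D.ideal V ^ a = E.ideal V ^ b := by
    intro x
    by_cases hx : x ∈ ((D.support : Set X) ∪ (E.support : Set X))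
    · obtain ⟨y, hy, hxy⟩ := Set.mem_iUnion₂.mp (hsub hx)
      exact ⟨U y, hxy, m y, n y, hmn y, hy, hUeq y⟩
    · obtain ⟨W, hW, hxW, hle⟩ := exists_isAffineOpen_mem_and_subset (x := x)
        (U := (⟨_, (D.support.isClosed.union E.support.isClosed).isOpen_compl⟩ : X.Opens)) hx
      refine ⟨⟨W, hW⟩, hxW, m x₀, n x₀, hmn x₀, rfl, ?_⟩
      have htop : ∀ I : X.IdealSheafData, (∀ z ∈ W, z ∉ I.support) → I.ideal ⟨W, hW⟩ = ⊤ := by
        intro I hI
        by_contra hne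
        obtain ⟨M, hM, hle'⟩ := Ideal.exists_le_maximal _ hne
        let z := hW.fromSpec ⟨M, hM.isPrime⟩
        have hz : z ∈ W := hW.range_fromSpec.le ⟨_, rfl⟩
        refine hI z hz ((I.mem_support_iff_of_mem (U := ⟨W, hW⟩) hz).mpr ?_)
        rw [Scheme.mem_zeroLocus_iff]
        intro f hf hzf
        have : (⟨M, hM.isPrime⟩ : Spec Γ(X, W)) ∈ hW.fromSpec ⁻¹ᵁ X.basicOpen f := hzf
        rw [hW.fromSpec_preimage_basicOpen] at this
        exact this (hle' hf)
      rw [htop D fun z hz h => hle hz (Or.inl h), htop E fun z hz h => hle hz (Or.inr h)]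
      simp [← Ideal.one_eq_top]
  choose V hV a b hab hprop hVeq using hall
  obtain ⟨t, ht⟩ := isCompact_univ.elim_finite_subcover (fun x => ((V x).1 : Set X))
    (fun x => (V x).1.2) (fun x _ => Set.mem_iUnion.mpr ⟨x, hV x⟩)
  let P := ∏ y ∈ t, (a y + b y)
  have hpos : ∀ y, 0 < a y + b y := fun y => by
    by_contra h
    exact hab y (by rw [show a y = 0 by omega, show b y = 0 by omega])
  have hP : 0 < P := Finset.prod_pos fun y _ => hpos y
  refine ⟨P * m x₀, P * n x₀, ?_, ?_⟩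
  · intro h
    apply hmn x₀
    simp only [Prod.mk.injEq, mul_eq_zero, hP.ne', false_or] at h
    rw [h.1, h.2]
  · have hsup : ⨆ y : t, (V y.1).1 = ⊤ := by
      rw [eq_top_iff]
      intro x _
      obtain ⟨y, hy, hxy⟩ := Set.mem_iUnion₂.mp (ht (Set.mem_univ x))
      exact Opens.mem_iSup.mpr ⟨⟨y, hy⟩, hxy⟩
    have key : D ^ (P * m x₀) = E ^ (P * n x₀) := by
      refine Scheme.IdealSheafData.ext_of_iSup_eq_top (fun y : t => V y.1) hsup fun y => ?_
      show D.ideal (V y.1) ^ (P * m x₀) = E.ideal (V y.1) ^ (P * n x₀)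
      obtain ⟨Q, hQ⟩ : a y.1 + b y.1 ∣ P := Finset.dvd_prod_of_mem _ y.2
      have e1 : P * m x₀ = a y.1 * (Q * (m x₀ + n x₀)) := by
        rw [hQ]; linear_combination Q * (hprop y.1).symm
      have e2 : P * n x₀ = b y.1 * (Q * (m x₀ + n x₀)) := by
        rw [hQ]; linear_combination Q * hprop y.1
      rw [e1, e2, pow_mul, hVeq, ← pow_mul]
    intro W
    exact congrArg (fun I : X.IdealSheafData => I.ideal W) key

end Groth.Agent.Lib.CDivRatio
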